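import Groth.Agent.Lib.SplitK17.Step

/-!
# The splitting property of `K(X)`
-/

set_option autoImplicit false
set_option backward.isDefEq.respectTransparency false
set_option linter.style.haveILetI false

universe v u

open AlgebraicGeometry CategoryTheory CategoryTheory.Limits TopologicalSpace LambdaRing Finset
open GrothLib.Lambda (Commutes lamSeries_add isUnit_lamSeries)

noncomputable section

namespace GrothLib.SplitK17

/-- The data of a splitting. -/
structure Spl (X : Scheme.{u}) (K : Type (u + 1)) [CommRing K] [LambdaOps K] (P : PosStructure K)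
    (φ : SGA6.Kvb X →+ K) (E : X.Modules) (m : ℕ) where
  X' : Scheme.{u}
  noeth : IsNoetherian X'
  conn : ConnectedSpace X'
  f : X' ⟶ X
  K' : Type (u + 1)
  ring : CommRing K'
  lam : LambdaOps K'
  P' : PosStructure K'
  φ' : SGA6.Kvb X' →+ K'
  model : KRR.IsModel X' K' P' φ'
  g : K →+* K'
  ext : IsExtension P P' g
  pull : KRR.IsPull f φ φ' g.toAddMonoidHom
  L : Fin m → X'.Modules
  rkL : ∀ j, FlatMod.IsFinLocFreeOfRank 1 (L j)
  sum : g (φ (KRR.cl X E)) = ∑ j, φ' (KRR.cl X' (L j))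
  comap : (∀ (Y : Scheme.{u}) (_ : IsNoetherian Y) (_ : ConnectedSpace Y) (M : Type (u + 1)) (_ : CommRing M)
    (_ : LambdaOps M) (Q : PosStructure M) (ψ : SGA6.Kvb Y →+ M), KRR.IsModel Y M Q ψ → HasSplitting M Q) →
    ∀ (k : ℕ) (x : K), g x ∈ gammaFiltration P' k → x ∈ gammaFiltration P k

theorem nonempty_spl : ∀ (m : ℕ) (X : Scheme.{u}) [IsNoetherian X] [ConnectedSpace X] (K : Type (u + 1))
    [CommRing K] [LambdaOps K] (P : PosStructure K) (φ : SGA6.Kvb X →+ K), KRR.IsModel X K P φ →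
    ∀ (E : X.Modules), FlatMod.IsFinLocFreeOfRank m E → Nonempty (Spl X K P φ E m) := by
  intro m
  induction m with
  | zero =>
    intro X hX hX' K _ _ P φ hK E hE
    refine ⟨⟨X, hX, hX', 𝟙 X, K, inferInstance, inferInstance, P, φ, hK, RingHom.id K,
      GrothLib.Lambda.isExtension_id P, fun A hA => ?_, fun j => j.elim0, fun j => j.elim0, ?_, fun _ _ _ h => h⟩⟩
    · exact congrArg φ (PBFree17.cl_iso ((Scheme.Modules.pullbackId X).app A).symm hA)
    · rw [show KRR.cl X E = 0 from K0Sub.clSub_isZero (ModelK.isZero_of_rank_zero' hE), map_zero, map_zero,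
        Fin.sum_univ_zero]
  | succ m ih =>
    intro X hX hX' K _ _ P φ hK E hE
    obtain ⟨S⟩ := nonempty_step X K P φ hK hE
    letI := S.ring
    letI := S.lam
    haveI := S.noeth
    haveI := S.conn
    obtain ⟨T⟩ := ih S.X' S.K' S.P' S.φ' S.model S.F S.rkF
    letI := T.ring
    letI := T.lam
    refine ⟨⟨T.X', T.noeth, T.conn, T.f ≫ S.f, T.K', inferInstance, inferInstance, T.P', T.φ', T.model,
      T.g.comp S.g, GrothLib.Lambda.isExtension_comp T.ext S.ext, fun A hA => ?_,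
      Fin.cons ((Scheme.Modules.pullback T.f).obj S.L) T.L, fun j => ?_, ?_, fun hsplit k x hx =>
        S.comap hsplit k x (T.comap hsplit k _ hx)⟩⟩
    · show T.g.toAddMonoidHom (S.g.toAddMonoidHom (φ (KRR.cl X A))) = _
      rw [S.pull A hA, T.pull _ (OX.isFinLocFree_pullback S.f hA)]
      exact congrArg T.φ' (PBFree17.cl_iso ((Scheme.Modules.pullbackComp T.f S.f).app A)
        (OX.isFinLocFree_pullback _ (OX.isFinLocFree_pullback _ hA)))
    · refine Fin.cases ?_ (fun i => ?_) j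
      · exact OX.isFinLocFreeOfRank_pullback T.f S.rkL
      · exact T.rkL i
    · show T.g (S.g (φ (KRR.cl X E))) = _
      rw [S.sum, map_add, T.sum, Fin.sum_univ_succ, add_comm, Fin.cons_zero]
      simp only [Fin.cons_succ]
      exact congrArg (· + _) (T.pull S.L (FinCov.isFinLocFree_of_rank S.rkL))

/-- `K(X)` has the splitting property. -/
theorem hasSplitting (X : Scheme.{u}) [IsNoetherian X] [ConnectedSpace X] (K : Type (u + 1)) [CommRing K]
    [LambdaOps K] (P : PosStructure K) (φ : SGA6.Kvb X →+ K) (hK : KRR.IsModel X K P φ) : HasSplitting K P := by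
  refine ⟨{L | ∃ (Y : Scheme.{u}) (_ : IsNoetherian Y) (_ : ConnectedSpace Y) (ψ : SGA6.Kvb Y →+ L.carrier),
    KRR.IsModel Y L.carrier L.posStr ψ}, ⟨X, inferInstance, inferInstance, φ, hK⟩, ?_⟩
  rintro L ⟨Y, hY, hY', ψ, hψ⟩ e he
  obtain ⟨n, E, -, hE, rfl⟩ := (hψ.mem_pos_iff e).1 he
  obtain ⟨T⟩ := nonempty_spl n Y L.carrier L.posStr ψ hψ E hE
  letI := T.ring
  letI := T.lam
  refine ⟨⟨T.K', T.P'⟩, ⟨T.X', T.noeth, T.conn, T.φ', T.model⟩, T.g, T.ext,
    Finset.univ.val.map fun j => T.φ' (KRR.cl T.X' (T.L j)), ?_, T.sum.symm⟩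
  intro u hu
  obtain ⟨j, -, rfl⟩ := Multiset.mem_map.1 hu
  exact ModelK.isLine_cl T.model (T.rkL j)

/-- Homomorphisms commuting with `λ` and the augmentations respect the γ-filtrations. -/
theorem map_mem_gammaFiltration {A : Type v} {B : Type u} [CommRing A] [LambdaOps A] [CommRing B] [LambdaOps B]
    {PA : PosStructure A} {PB : PosStructure B} {f : A →+* B} (hc : Commutes f)
    (ha : ∀ x, PB.aug (f x) = PA.aug x) {k : ℕ} {y : A} (hy : y ∈ gammaFiltration PA k) :
    f y ∈ gammaFiltration PB k := by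
  rcases Nat.eq_zero_or_pos k with rfl | hk
  · simp [gammaFiltration]
  rw [gammaFiltration, if_neg (by omega)] at hy ⊢
  refine (AddSubgroup.closure_le (K := (AddSubgroup.closure _).comap f.toAddMonoidHom)).2 ?_ hy
  rintro _ ⟨l, hl, hle, rfl⟩
  refine AddSubgroup.subset_closure ⟨l.map fun p => (p.1, f p.2), ?_, ?_, ?_⟩
  · simp only [List.mem_map]
    rintro _ ⟨p, hp, rfl⟩
    rw [ha]; exact hl p hp
  · simpa [List.map_map, Function.comp_def] using hle
  · show f _ = _
    rw [map_list_prod, List.map_map, List.map_map]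
    exact congrArg List.prod (List.map_congr_left fun p _ => hc.gamma p.1 p.2)

/-- Two models of `K(X)` are isomorphic. -/
theorem exists_modelEquiv {X : Scheme.{u}} {K : Type v} [CommRing K] [LambdaOps K] {P : PosStructure K}
    {φ : SGA6.Kvb X →+ K} (hK : KRR.IsModel X K P φ) {L : Type (u + 1)} [CommRing L] [LambdaOps L]
    {Q : PosStructure L} {ψ : SGA6.Kvb X →+ L} (hL : KRR.IsModel X L Q ψ) :
    ∃ h : K ≃+* L, (∀ x, h (φ x) = ψ x) ∧ Commutes (h : K →+* L) ∧ Commutes (h.symm : L →+* K) ∧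
      ∀ x, Q.aug (h x) = P.aug x := by
  let h₀ : K ≃+ L := (AddEquiv.ofBijective φ hK.bijective).symm.trans (AddEquiv.ofBijective ψ hL.bijective)
  have hφ : ∀ x, h₀ (φ x) = ψ x := fun x => by
    show ψ ((AddEquiv.ofBijective φ hK.bijective).symm ((AddEquiv.ofBijective φ hK.bijective) x)) = ψ x
    rw [AddEquiv.symm_apply_apply]
  have hvb : ∀ a, ∃ E F : X.Modules, FlatMod.IsFinLocFree E ∧ FlatMod.IsFinLocFree F ∧
      a = φ (KRR.cl X E) - φ (KRR.cl X F) := fun a => ModelK.exists_bundles hK a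
  have hmul : ∀ a b, h₀ (a * b) = h₀ a * h₀ b := fun a b => by
    obtain ⟨E, F, hE, hF, rfl⟩ := hvb a
    obtain ⟨E', F', hE', hF', rfl⟩ := hvb b
    have key : ∀ G G' : X.Modules, FlatMod.IsFinLocFree G → FlatMod.IsFinLocFree G' →
        h₀ (φ (KRR.cl X G) * φ (KRR.cl X G')) = h₀ (φ (KRR.cl X G)) * h₀ (φ (KRR.cl X G')) := fun G G' hG hG' => by
      rw [hK.map_mul G G' hG hG', hφ, hφ, hφ, hL.map_mul G G' hG hG']
    simp only [sub_mul, mul_sub, map_sub, key _ _ hE hE', key _ _ hE hF', key _ _ hF hE', key _ _ hF hF']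
  let h : K ≃+* L := { h₀ with map_mul' := hmul }
  have hh : ∀ x, h x = h₀ x := fun _ => rfl
  have hlam : ∀ i x, h (LambdaOps.lam i x) = LambdaOps.lam i (h x) := fun i x => by
    obtain ⟨E, F, hE, hF, rfl⟩ := hvb x
    have key : ∀ G : X.Modules, FlatMod.IsFinLocFree G → PowerSeries.map (h : K →+* L)
        (lamSeries (φ (KRR.cl X G))) = lamSeries (h (φ (KRR.cl X G))) := fun G hG => by
      ext k
      rw [PowerSeries.coeff_map, lamSeries, lamSeries, PowerSeries.coeff_mk, PowerSeries.coeff_mk]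
      show h₀ _ = LambdaOps.lam k (h₀ _)
      rw [ModelK.lam_cl hK hG, hφ, hφ, ModelK.lam_cl hL hG]
    have h' : PowerSeries.map (h : K →+* L) (lamSeries (φ (KRR.cl X E) - φ (KRR.cl X F))) =
        lamSeries (h (φ (KRR.cl X E) - φ (KRR.cl X F))) := by
      refine (isUnit_lamSeries (h (φ (KRR.cl X F)))).mul_right_cancel ?_
      rw [← lamSeries_add, ← map_add, sub_add_cancel]
      nth_rewrite 1 [← key F hF]
      rw [← map_mul, ← lamSeries_add, sub_add_cancel, key E hE]
    have := congrArg (PowerSeries.coeff i) h'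
    rwa [PowerSeries.coeff_map, lamSeries, lamSeries, PowerSeries.coeff_mk, PowerSeries.coeff_mk] at this
  refine ⟨h, hφ, hlam, fun i x => ?_, fun x => ?_⟩
  · refine h.injective ?_
    show h (h.symm _) = h (LambdaOps.lam i (h.symm x))
    rw [RingEquiv.apply_symm_apply, hlam, RingEquiv.apply_symm_apply]
  · obtain ⟨e, g, he, hg, rfl⟩ := P.exists_sub x
    obtain ⟨m, E, -, hE, rfl⟩ := (hK.mem_pos_iff e).1 he
    obtain ⟨n, F, -, hF, rfl⟩ := (hK.mem_pos_iff g).1 hg
    rw [map_sub, map_sub, map_sub, hh, hh, hφ, hφ, hL.aug_cl m E hE, hL.aug_cl n F hF, hK.aug_cl m E hE,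
      hK.aug_cl n F hF]

end GrothLib.SplitK17
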