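import Groth.Agent.S3789
import Groth.Agent.S3788
import Groth.Agent.S3796
import Groth.Agent.Lib.ModelK.Basic
import Groth.Agent.Lib.Lambda.ExtFilt
import Groth.Agent.Lib.Lambda.AdamsRR.Elementary
import Groth.Agent.Lib.PBDeg17.Exists
import Groth.Agent.Lib.ProjPic26.Over
import Groth.Agent.Lib.ModelK.PBT
import Mathlib.AlgebraicGeometry.Geometrically.Connected

/-!
# The elementary extension of `K(X)` is `K(P(E))`
-/

set_option autoImplicit false
set_option backward.isDefEq.respectTransparency false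
set_option linter.style.haveILetI false

universe u

open AlgebraicGeometry CategoryTheory CategoryTheory.Limits TopologicalSpace LambdaRing Finset

noncomputable section

namespace GrothLib.SplitK17

theorem geometricallyConnected_toBase (n : ℕ) (S : Scheme.{u}) :
    GeometricallyConnected (CohB1.ProjSpaceOver.toBase n S) := by
  refine ⟨fun K _ y Z fst snd h => ?_⟩
  haveI : GeometricallyIntegral (CohB1.ProjSpaceOver.toBase n S) := inferInstance
  haveI : IsIntegral Z := GeometricallyIntegral.geometrically_isIntegral y fst snd h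
  infer_instance

/-- A bundle of projective spaces over a connected base is connected. -/
theorem connectedSpace_of_setup {P T : Scheme.{u}} {π : P ⟶ T} {m : ℕ} (S : PBFree17.Setup π m)
    [ConnectedSpace T] : ConnectedSpace P := by
  haveI := S.proper
  have hfib : ∀ x : T, _root_.IsConnected (π ⁻¹' {x}) := fun x => by
    obtain ⟨C, hx⟩ := S.chart x
    obtain ⟨z, rfl⟩ : x ∈ Set.range C.hU.fromSpec := by rw [C.hU.range_fromSpec]; exact hx
    haveI := C.isOpenImmersion
    haveI := geometricallyConnected_toBase m (Spec (CommRingCat.of Γ(T, C.U)))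
    have hw : ∀ w, π (C.σ w) = C.hU.fromSpec (KRR.pr m _ w) := fun w => by
      rw [← Scheme.Hom.comp_apply, C.hsq.w, Scheme.Hom.comp_apply]; rfl
    have h : π ⁻¹' {C.hU.fromSpec z} = C.σ '' ((KRR.pr m (Spec (CommRingCat.of Γ(T, C.U)))) ⁻¹' {z}) := by
      refine Set.Subset.antisymm (fun y hy => ?_) ?_
      · obtain ⟨w, -, hw'⟩ : y ∈ C.σ ''ᵁ ⊤ := by
          rw [C.image_eq]
          show π y ∈ C.U
          rw [Set.mem_preimage, Set.mem_singleton_iff] at hy
          rw [hy]
          exact hx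
        refine ⟨w, C.hU.fromSpec.isOpenEmbedding.injective ?_, hw'⟩
        refine (hw w).symm.trans ?_
        exact (congrArg π hw').trans hy
      · rintro _ ⟨w, hw', rfl⟩
        show π (C.σ w) = _
        rw [hw]
        exact congrArg _ hw'
    rw [h]
    exact ((CohB1.ProjSpaceOver.toBase m _).isConnected_preimage_singleton z).image _ C.σ.continuous.continuousOn
  have hs : Function.Surjective π := fun x => (hfib x).1
  have hq : Topology.IsQuotientMap π := π.isClosedMap.isQuotientMap π.continuous hs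
  have := Topology.IsCoinducing.isConnected_preimage_of_isClosed hfib hq.isCoinducing isClosed_univ isConnected_univ
  rw [Set.preimage_univ] at this
  exact connectedSpace_iff_univ.2 this

/-- The data of one step. -/
structure Step (X : Scheme.{u}) (K : Type (u + 1)) [CommRing K] [LambdaOps K] (P : PosStructure K)
    (φ : SGA6.Kvb X →+ K) (E : X.Modules) (r : ℕ) where
  X' : Scheme.{u}
  noeth : IsNoetherian X'
  conn : ConnectedSpace X'
  f : X' ⟶ X
  K' : Type (u + 1)
  ring : CommRing K'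
  lam : LambdaOps K'
  P' : PosStructure K'
  φ' : SGA6.Kvb X' →+ K'
  model : KRR.IsModel X' K' P' φ'
  g : K →+* K'
  ext : IsExtension P P' g
  pull : KRR.IsPull f φ φ' g.toAddMonoidHom
  L : X'.Modules
  F : X'.Modules
  rkL : FlatMod.IsFinLocFreeOfRank 1 L
  rkF : FlatMod.IsFinLocFreeOfRank r F
  sum : g (φ (KRR.cl X E)) = φ' (KRR.cl X' F) + φ' (KRR.cl X' L)
  comap : (∀ (Y : Scheme.{u}) (_ : IsNoetherian Y) (_ : ConnectedSpace Y) (M : Type (u + 1)) (_ : CommRing M)
    (_ : LambdaOps M) (Q : PosStructure M) (ψ : SGA6.Kvb Y →+ M), KRR.IsModel Y M Q ψ → HasSplitting M Q) →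
    ∀ (k : ℕ) (x : K), g x ∈ gammaFiltration P' k → x ∈ gammaFiltration P k

open Polynomial in
theorem mem_of_of_mem_extG {K : Type (u + 1)} [CommRing K] [LambdaOps K] (P : PosStructure K) {e : K} {r : ℕ}
    (hr : P.aug e = r + 1) {k : ℕ} {x : K}
    (hx : AdjoinRoot.of (KRR.extPoly P e) x ∈ GrothLib.Lambda.extG P e r k) : x ∈ gammaFiltration P k := by
  obtain ⟨z, hz⟩ := P.aug_surjective 0
  haveI : Nontrivial K := P.aug.domain_nontrivial
  obtain ⟨hm, hdeg⟩ := GrothLib.Lambda.AdamsRR.monic_extPoly (P := P) (e := e) hr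
  let H : AddSubgroup (AdjoinRoot (KRR.extPoly P e)) :=
    { carrier := {z | ∃ q : K[X], q.degree < ((r + 1 : ℕ) : WithBot ℕ) ∧ AdjoinRoot.mk _ q = z ∧
        q.eval 1 ∈ gammaFiltration P k}
      add_mem' := by
        rintro _ _ ⟨q, hq, rfl, hq'⟩ ⟨q₂, hq₂, rfl, hq₂'⟩
        exact ⟨q + q₂, (degree_add_le _ _).trans_lt (max_lt hq hq₂), map_add _ _ _, by
          rw [eval_add]; exact add_mem hq' hq₂'⟩
      zero_mem' := ⟨0, by rw [degree_zero]; exact WithBot.bot_lt_coe _, map_zero _, by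
        rw [eval_zero]; exact zero_mem _⟩
      neg_mem' := by
        rintro _ ⟨q, hq, rfl, hq'⟩
        exact ⟨-q, by rwa [degree_neg], map_neg _ _, by rw [eval_neg]; exact neg_mem hq'⟩ }
  have hle : GrothLib.Lambda.extG P e r k ≤ H := by
    refine iSup₂_le fun i hi => ?_
    rintro _ ⟨y, hy, rfl⟩
    refine ⟨C y * (X - 1) ^ i, ?_, ?_, ?_⟩
    · refine ((degree_mul_le _ _).trans (add_le_add degree_C_le (degree_pow_le _ _))).trans_lt ?_
      rw [← Polynomial.C_1, degree_X_sub_C, zero_add, nsmul_one]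
      exact_mod_cast mem_range.1 hi
    · simp
    · rcases Nat.eq_zero_or_pos i with rfl | hi0
      · simpa using hy
      · simp [zero_pow (show i ≠ 0 by omega), zero_mem]
  obtain ⟨q, hq, hq1, hq2⟩ := hle hx
  have hqC : q - C x = 0 := by
    by_contra hne
    have h1 : KRR.extPoly P e ∣ q - C x := by
      rw [← AdjoinRoot.mk_eq_mk, AdjoinRoot.mk_C]
      exact hq1
    have h2 : (q - C x).degree < (KRR.extPoly P e).degree := by
      rw [degree_eq_natDegree hm.ne_zero, hdeg]
      exact (degree_sub_le _ _).trans_lt (max_lt hq (degree_C_le.trans_lt (WithBot.coe_lt_coe.2 (Nat.succ_pos r))))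
    exact hm.not_dvd_of_degree_lt hne h2 h1
  rw [sub_eq_zero.1 hqC, eval_C] at hq2
  exact hq2

theorem nonempty_step (X : Scheme.{u}) [IsNoetherian X] [ConnectedSpace X] (K : Type (u + 1)) [CommRing K]
    [LambdaOps K] (P : PosStructure K) (φ : SGA6.Kvb X →+ K) (hK : KRR.IsModel X K P φ) {r : ℕ} {E : X.Modules}
    (hE : FlatMod.IsFinLocFreeOfRank (r + 1) E) : Nonempty (Step X K P φ E r) := by
  obtain ⟨X', π, O1, q, hPB, -, hπ⟩ := PBDeg.exists_isProjBundle hE
  haveI := hπ
  haveI : IsLocallyNoetherian X' := LocallyOfFiniteType.isLocallyNoetherian π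
  haveI : CompactSpace X' := QuasiCompact.compactSpace_of_compactSpace π
  haveI : IsNoetherian X' := {}
  have hO := PBDeg.rankOne_iff.1 hPB.invertible
  obtain ⟨Oinv, hI, hmul⟩ := VA.exists_inverse hO
  have hinv : ClSub.IsInverseOf Oinv O1 :=
    (Cube.clsMod_eq_one_iff (Ample.isInvertible_tensorMod hI hO)).1 (by
      rw [Cube.clsMod_tensorMod hI hO, hmul, inv_mul_cancel])
  obtain ⟨S, -, -⟩ := PBFree17.exists_setup hE hPB hinv
  haveI := connectedSpace_of_setup S
  obtain ⟨K₁, iR, iL, P₁, φ₁, h₁⟩ := Groth.Agent.S3796.result X'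
  -- the pull-back
  obtain ⟨p, hp⟩ := K0Sub.exists_pull π
  let e₀ := AddEquiv.ofBijective φ hK.bijective
  let g₁ : K →+ K₁ := φ₁.comp (p.comp e₀.symm.toAddMonoidHom)
  have hg₁ : KRR.IsPull π φ φ₁ g₁ := fun N hN => by
    show φ₁ (p (e₀.symm (e₀ (KRR.cl X N)))) = _
    rw [AddEquiv.symm_apply_apply, hp N hN]
  let G₁ := ModelK.pullHom h₁ hK hg₁
  set e := φ (KRR.cl X E) with he_def
  have he : e ∈ P.pos := (hK.mem_pos_iff e).2 ⟨r + 1, E, by omega, hE, rfl⟩
  have hr : P.aug e = r + 1 := by rw [he_def, hK.aug_cl _ E hE]; push_cast; rfl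
  have hn : (P.aug e).toNat = r + 1 := by omega
  set ℓ := φ₁ (KRR.cl X' O1) with hℓ
  have hrel : (KRR.extPoly P e).eval₂ G₁ ℓ = 0 := by
    have h := Groth.Agent.S3788.result X X' r E hE π O1 q hPB K P φ hK K₁ P₁ φ₁ h₁ g₁ hg₁
    refine Eq.trans ?_ h
    rw [KRR.extPoly, Polynomial.eval₂_finsetSum, hn]
    refine sum_congr rfl fun i _ => ?_
    simp only [Polynomial.eval₂_mul, Polynomial.eval₂_C, Polynomial.eval₂_X, Polynomial.eval₂_pow, Polynomial.eval₂_neg, Polynomial.eval₂_one, map_mul, map_pow,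
      map_neg, map_one]
    rfl
  let ψ := AdjoinRoot.lift G₁ ℓ hrel
  have hfree := Groth.Agent.S3789.result X X' r E hE π O1 q hPB K P φ hK K₁ P₁ φ₁ h₁ g₁ hg₁
  have hG₁ : Function.Injective G₁ := fun a b hab => by
    have := hfree.1 (a₁ := Pi.single 0 a) (a₂ := Pi.single 0 b) (by
      show ∑ i : Fin (r + 1), _ = ∑ i : Fin (r + 1), _
      rw [sum_eq_single (0 : Fin (r + 1)) (fun i _ hi => by rw [Pi.single_eq_of_ne hi, map_zero, zero_mul])
          (fun h => absurd (mem_univ _) h),
        sum_eq_single (0 : Fin (r + 1)) (fun i _ hi => by rw [Pi.single_eq_of_ne hi, map_zero, zero_mul])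
          (fun h => absurd (mem_univ _) h), Pi.single_eq_same, Pi.single_eq_same]
      exact congrArg (· * _) hab)
    simpa using congrFun this 0
  obtain ⟨z, hz⟩ := P.aug_surjective 0
  haveI : Nontrivial K := P.aug.domain_nontrivial
  obtain ⟨hm, hdeg⟩ := GrothLib.Lambda.AdamsRR.monic_extPoly (P := P) (e := e) hr
  have hcoord : ∀ x : AdjoinRoot (KRR.extPoly P e), ∃ a : Fin (r + 1) → K,
      x = ∑ i : Fin (r + 1), AdjoinRoot.of _ (a i) * AdjoinRoot.root _ ^ (i : ℕ) := fun x => by
    obtain ⟨f, rfl⟩ := AdjoinRoot.mk_surjective x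
    refine ⟨fun i => (f %ₘ KRR.extPoly P e).coeff i, ?_⟩
    have hlt : (f %ₘ KRR.extPoly P e).natDegree < r + 1 := hdeg ▸ Polynomial.natDegree_modByMonic_lt f hm
      (fun h => by have := congrArg Polynomial.natDegree h; rw [hdeg, Polynomial.natDegree_one] at this; omega)
    have hmod : AdjoinRoot.mk (KRR.extPoly P e) f = AdjoinRoot.mk _ (f %ₘ KRR.extPoly P e) := by
      rw [AdjoinRoot.mk_eq_mk]
      exact ⟨f /ₘ KRR.extPoly P e, by
        linear_combination -(Polynomial.modByMonic_add_div (p := f) (KRR.extPoly P e))⟩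
    rw [hmod]
    conv_lhs => rw [Polynomial.as_sum_range' _ _ hlt]
    rw [map_sum, ← Fin.sum_univ_eq_sum_range]
    refine sum_congr rfl fun i _ => ?_
    rw [← Polynomial.C_mul_X_pow_eq_monomial, map_mul, map_pow, AdjoinRoot.mk_C, AdjoinRoot.mk_X]
  have hψc : ∀ a : Fin (r + 1) → K, ψ (∑ i : Fin (r + 1), AdjoinRoot.of _ (a i) * AdjoinRoot.root _ ^ (i : ℕ)) =
      ∑ i : Fin (r + 1), g₁ (a i) * ℓ ^ (i : ℕ) := fun a => by
    rw [map_sum]
    exact sum_congr rfl fun i _ => by rw [map_mul, map_pow, AdjoinRoot.lift_of, AdjoinRoot.lift_root]; rfl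
  have hψ : Function.Bijective ψ := by
    refine ⟨fun x y hxy => ?_, fun y => ?_⟩
    · obtain ⟨a, rfl⟩ := hcoord x
      obtain ⟨b, rfl⟩ := hcoord y
      rw [hψc, hψc] at hxy
      rw [hfree.1 hxy]
    · obtain ⟨a, ha⟩ := hfree.2 y
      exact ⟨_, (hψc a).trans ha⟩
  let Ψ := RingEquiv.ofBijective ψ hψ
  letI instL : LambdaOps (AdjoinRoot (KRR.extPoly P e)) :=
    { lam := fun i x => Ψ.symm (LambdaOps.lam i (Ψ x))
      lam_zero := fun x => by rw [LambdaOps.lam_zero, map_one]
      lam_one := fun x => by rw [LambdaOps.lam_one, RingEquiv.symm_apply_apply]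
      lam_add := fun k x y => by
        rw [map_add, LambdaOps.lam_add, map_sum]
        exact sum_congr rfl fun i _ => map_mul _ _ _ }
  have hlam : ∀ i x, Ψ (LambdaOps.lam i x) = LambdaOps.lam i (Ψ x) := fun i x => Ψ.apply_symm_apply _
  let Pe : PosStructure (AdjoinRoot (KRR.extPoly P e)) :=
    { aug := P₁.aug.comp Ψ.toRingHom
      aug_surjective := P₁.aug_surjective.comp Ψ.surjective
      pos := Ψ ⁻¹' P₁.pos
      add_mem := fun a b ha hb => by
        show Ψ (a + b) ∈ P₁.pos
        rw [map_add]; exact P₁.add_mem _ _ ha hb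
      mul_mem := fun a b ha hb => by
        show Ψ (a * b) ∈ P₁.pos
        rw [map_mul]; exact P₁.mul_mem _ _ ha hb
      natCast_mem := fun n hn => by
        show Ψ n ∈ P₁.pos
        rw [map_natCast]; exact P₁.natCast_mem n hn
      exists_sub := fun x => by
        obtain ⟨a, b, ha, hb, hab⟩ := P₁.exists_sub (Ψ x)
        exact ⟨Ψ.symm a, Ψ.symm b, by simpa using ha, by simpa using hb, Ψ.injective (by simpa using hab)⟩
      aug_pos := fun a ha => P₁.aug_pos _ ha
      lam_eq_zero := fun a ha i hi => Ψ.injective (by rw [hlam, map_zero]; exact P₁.lam_eq_zero _ ha i hi)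
      isUnit_lam := fun a ha => by
        show IsUnit (Ψ.symm _)
        exact (P₁.isUnit_lam _ ha).map Ψ.symm }
  let φe : SGA6.Kvb X' →+ AdjoinRoot (KRR.extPoly P e) := Ψ.symm.toAddEquiv.toAddMonoidHom.comp φ₁
  have hφe : ∀ x, φe x = Ψ.symm (φ₁ x) := fun _ => rfl
  have he' : KRR.IsModel X' (AdjoinRoot (KRR.extPoly P e)) Pe φe :=
    { bijective := Ψ.symm.bijective.comp h₁.bijective
      map_one := by rw [hφe, h₁.map_one, map_one]
      map_mul := fun A B hA hB => by rw [hφe, hφe, hφe, ← map_mul, h₁.map_mul A B hA hB]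
      map_lam := fun i A B hA hB hAB => by
        show Ψ.symm (LambdaOps.lam i (Ψ (Ψ.symm _))) = Ψ.symm _
        rw [RingEquiv.apply_symm_apply, h₁.map_lam i A B hA hB hAB]
      aug_cl := fun n A hA => by
        show P₁.aug (Ψ (Ψ.symm _)) = _
        rw [RingEquiv.apply_symm_apply, h₁.aug_cl n A hA]
      mem_pos_iff := fun x => by
        show Ψ x ∈ P₁.pos ↔ _
        rw [h₁.mem_pos_iff]
        simp only [hφe, RingEquiv.symm_apply_eq] }
  have hof : ∀ x, Ψ (AdjoinRoot.of (KRR.extPoly P e) x) = g₁ x := fun x => AdjoinRoot.lift_of hrel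
  have hpull : KRR.IsPull π φ φe (AdjoinRoot.of (KRR.extPoly P e)).toAddMonoidHom := fun N hN => by
    refine Ψ.injective ?_
    rw [hφe, RingEquiv.apply_symm_apply]
    exact (hof _).trans (hg₁ N hN)
  have hext : IsExtension P Pe (AdjoinRoot.of (KRR.extPoly P e)) :=
    { isLambdaHom := fun i x => Ψ.injective (by
        rw [hlam, hof, hof]
        exact ModelK.isLambdaHom_pull h₁ hK hg₁ i x)
      injective := fun a b hab => hG₁ (show g₁ a = g₁ b by rw [← hof, ← hof, hab])
      aug_comp := fun x => by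
        show P₁.aug (Ψ _) = _
        rw [hof]; exact ModelK.aug_pull h₁ hK hg₁ x
      pos_subset := fun a ha => by
        show Ψ _ ∈ P₁.pos
        obtain ⟨n, A, hn, hA, rfl⟩ := (hK.mem_pos_iff a).1 ha
        rw [hof, hg₁ A (FinCov.isFinLocFree_of_rank hA)]
        exact (h₁.mem_pos_iff _).2 ⟨n, _, hn, OX.isFinLocFreeOfRank_pullback π hA, rfl⟩ }
  have hroot : φe (KRR.cl X' O1) = AdjoinRoot.root _ := Ψ.injective (by
    rw [hφe, RingEquiv.apply_symm_apply]
    exact (AdjoinRoot.lift_root hrel).symm)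
  haveI := hPB.epi
  have hEp := OX.isFinLocFreeOfRank_pullback π hE
  have hF : FlatMod.IsFinLocFreeOfRank r (kernel q) := PBDeg.isFinLocFreeOfRank_kernel_of_epi hEp hO q
  refine ⟨⟨X', inferInstance, inferInstance, π, AdjoinRoot (KRR.extPoly P e), inferInstance, instL, Pe, φe, he',
    AdjoinRoot.of _, hext, hpull, O1, kernel q, hPB.invertible, hF, ?_, ?_⟩⟩
  · refine (hpull E (FinCov.isFinLocFree_of_rank hE)).trans ?_
    rw [← map_add]
    exact congrArg φe (K0Sub.clSub_add (P := KRR.vbP X') (K0Sub.shortExact_kernel q)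
      (FinCov.isFinLocFree_of_rank hF) (FinCov.isFinLocFree_of_rank hEp)
      (FinCov.isFinLocFree_of_rank hPB.invertible))
  · intro hsplit k x hx
    have hline : Pe.IsLine (AdjoinRoot.root (KRR.extPoly P e)) := hroot ▸ ModelK.isLine_cl he' hPB.invertible
    have hrelG := GrothLib.Lambda.root_sub_one_relation he hr instL (fun i a => (hext.isLambdaHom i a).symm)
      (@GrothLib.Lambda.lam_one_eq_zero_of_pos _ _ instL Pe)
      (fun i hi => GrothLib.Lambda.lam_line_eq_zero hline hi)
    rw [GrothLib.Lambda.gammaFiltration_ext (hsplit X inferInstance inferInstance K _ _ P φ hK) he hr hrelG instL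
      Pe hext hline (hsplit X' inferInstance inferInstance _ _ _ Pe φe he') k] at hx
    exact mem_of_of_mem_extG P hr hx

end GrothLib.SplitK17
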